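import Groth.Agent.Lib.Dim.Basic
import Mathlib.RingTheory.Spectrum.Prime.Chevalley
import Mathlib.RingTheory.Spectrum.Prime.ConstructibleSet
import Mathlib.RingTheory.Algebraic.Integral
import Mathlib.RingTheory.Localization.Away.Basic
import Mathlib.RingTheory.RingHom.FinitePresentation

/-!
# Cutting down the dimension of a rational parametrization
-/

universe u

namespace Groth.Agent.H68.RatVar

variable {k : Type u} [Field k]

/-- The image of an injective finite type map of domains contains a nonempty basic open. -/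
theorem exists_basicOpen_subset {R S : Type u} [CommRing R] [IsDomain R] [IsNoetherianRing R]
    [CommRing S] [IsDomain S] (f : R →+* S) (hf : Function.Injective f) (hft : f.FiniteType) :
    ∃ g : R, g ≠ 0 ∧ ∀ p : PrimeSpectrum R, g ∉ p.asIdeal → ∃ q : PrimeSpectrum S,
      PrimeSpectrum.comap f q = p := by
  obtain ⟨D, hD⟩ := PrimeSpectrum.exists_constructibleSetData_iff.mpr
    (PrimeSpectrum.isConstructible_range_comap (RingHom.FinitePresentation.of_finiteType.mp hft))
  have h0 : (⟨⊥, Ideal.isPrime_bot⟩ : PrimeSpectrum R) ∈ D.toSet := hD ▸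
    ⟨⟨⊥, Ideal.isPrime_bot⟩, PrimeSpectrum.ext (Ideal.comap_bot_of_injective f hf)⟩
  simp only [PrimeSpectrum.ConstructibleSetData.toSet, Set.mem_iUnion] at h0
  obtain ⟨C, hC, hCg, hCf⟩ := h0
  refine ⟨C.f, fun h => hCf ((PrimeSpectrum.mem_zeroLocus _ _).mpr (by simp [h])), fun p hp => ?_⟩
  suffices p ∈ D.toSet by rw [hD] at this; exact this
  simp only [PrimeSpectrum.ConstructibleSetData.toSet, Set.mem_iUnion]
  refine ⟨C, hC, (PrimeSpectrum.mem_zeroLocus _ _).mpr fun x hx => ?_,
    fun h => hp ((PrimeSpectrum.mem_zeroLocus _ _).mp h rfl)⟩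
  rw [show x = 0 from (PrimeSpectrum.mem_zeroLocus _ _).mp hCg hx]
  exact zero_mem _

/-- Substituting a scalar for the `j`-th variable: the kernel. -/
theorem sub_mem_span {n : ℕ} (j : Fin (n + 1)) (c : k) (p : MvPolynomial (Fin (n + 1)) k)
    (hp : MvPolynomial.aeval (Fin.insertNth j (MvPolynomial.C c : MvPolynomial (Fin n) k)
      MvPolynomial.X) p = 0) :
    p ∈ Ideal.span {MvPolynomial.X j - MvPolynomial.C c} := by
  let I : Ideal (MvPolynomial (Fin (n + 1)) k) :=
    Ideal.span {MvPolynomial.X j - MvPolynomial.C c}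
  have : (Ideal.Quotient.mkₐ k I).comp ((MvPolynomial.rename j.succAbove).comp
      (MvPolynomial.aeval (Fin.insertNth j (MvPolynomial.C c : MvPolynomial (Fin n) k)
        MvPolynomial.X))) = Ideal.Quotient.mkₐ k I := by
    refine MvPolynomial.algHom_ext fun i => ?_
    rcases Fin.eq_self_or_eq_succAbove j i with rfl | ⟨i, rfl⟩
    · simp only [AlgHom.comp_apply, MvPolynomial.aeval_X, Fin.insertNth_apply_same,
        MvPolynomial.rename_C, Ideal.Quotient.mkₐ_eq_mk]
      rw [eq_comm, Ideal.Quotient.eq]
      exact Ideal.subset_span rfl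
    · simp
  have h := AlgHom.congr_fun this p
  simp only [AlgHom.comp_apply, hp, map_zero, Ideal.Quotient.mkₐ_eq_mk] at h
  exact Ideal.Quotient.eq_zero_iff_mem.mp h.symm

theorem trdeg_away (n : ℕ) {h : MvPolynomial (Fin n) k} (hh : h ≠ 0) :
    Algebra.trdeg k (Localization.Away h) = n := by
  have : FaithfulSMul (MvPolynomial (Fin n) k) (Localization.Away h) :=
    (faithfulSMul_iff_algebraMap_injective _ _).mpr (IsLocalization.injective _
      (powers_le_nonZeroDivisors_of_noZeroDivisors hh))
  have : IsDomain (Localization.Away h) := IsLocalization.isDomain_localization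
    (powers_le_nonZeroDivisors_of_noZeroDivisors hh)
  have : Algebra.IsAlgebraic (MvPolynomial (Fin n) k) (Localization.Away h) :=
    IsLocalization.isAlgebraic _ (.powers h)
  rw [← trdeg_add_eq k (MvPolynomial (Fin n) k) (A := Localization.Away h), trdeg_eq_zero (R := MvPolynomial (Fin n) k) (A := Localization.Away h),
    add_zero, MvPolynomial.trdeg_of_isDomain]
  simp

/-- One step. -/
theorem step [Infinite k] (A : Type u) [CommRing A] [IsDomain A] [Algebra k A]
    [Algebra.FiniteType k A] (n : ℕ) (h : MvPolynomial (Fin (n + 1)) k) (hh : h ≠ 0)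
    (φ : A →ₐ[k] Localization.Away h) (hφ : Function.Injective φ)
    (hd : Lib.Dim.Basic.trdegNat k A < n + 1) :
    ∃ (h' : MvPolynomial (Fin n) k) (_ : h' ≠ 0) (φ' : A →ₐ[k] Localization.Away h'),
      Function.Injective φ' := by
  classical
  have hle := powers_le_nonZeroDivisors_of_noZeroDivisors hh
  have : IsDomain (Localization.Away h) := IsLocalization.isDomain_localization hle
  let _ : Algebra A (Localization.Away h) := φ.toRingHom.toAlgebra
  have : IsScalarTower k A (Localization.Away h) :=
    IsScalarTower.of_algebraMap_eq fun x => (φ.commutes x).symm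
  have : FaithfulSMul A (Localization.Away h) :=
    (faithfulSMul_iff_algebraMap_injective _ _).mpr hφ
  obtain ⟨j, hj⟩ : ∃ j, Transcendental A
      (algebraMap (MvPolynomial (Fin (n + 1)) k) (Localization.Away h) (MvPolynomial.X j)) := by
    by_contra hcon
    simp only [Transcendental, not_exists, not_not] at hcon
    have hP : ∀ p : MvPolynomial (Fin (n + 1)) k,
        IsAlgebraic A (algebraMap _ (Localization.Away h) p) := fun p => by
      induction p using MvPolynomial.induction_on with
      | C a =>
        rw [show algebraMap _ (Localization.Away h) (MvPolynomial.C a) =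
          algebraMap A (Localization.Away h) (algebraMap k A a) from by
            rw [← IsScalarTower.algebraMap_apply k A]
            exact (IsScalarTower.algebraMap_apply k (MvPolynomial (Fin (n + 1)) k) _ a).symm]
        exact isAlgebraic_algebraMap _
      | add p q hp hq => rw [map_add]; exact hp.add hq
      | mul_X p i hp => rw [map_mul]; exact hp.mul (hcon i)
    have : Algebra.IsAlgebraic A (Localization.Away h) := ⟨fun y => by
      obtain ⟨p, s, rfl⟩ := IsLocalization.exists_mk'_eq (Submonoid.powers h) y
      have hu := IsLocalization.map_units (Localization.Away h) s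
      let _ := hu.invertible
      rw [show IsLocalization.mk' (Localization.Away h) p s =
        algebraMap _ _ p * ⅟(algebraMap _ (Localization.Away h) (s : MvPolynomial (Fin (n + 1)) k))
        from IsLocalization.mk'_eq_iff_eq_mul.mpr (by rw [mul_assoc, invOf_mul_self, mul_one])]
      exact (hP p).mul (hP s).invOf⟩
    have ht := trdeg_add_eq k A (A := Localization.Away h)
    rw [trdeg_eq_zero (R := A) (A := Localization.Away h), add_zero, Lib.Dim.Basic.trdeg_eq_trdegNat, trdeg_away _ hh] at ht
    exact absurd (Nat.cast_inj.mp ht) hd.ne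
  set x := algebraMap (MvPolynomial (Fin (n + 1)) k) (Localization.Away h) (MvPolynomial.X j)
  let ψ : Polynomial A →ₐ[A] Localization.Away h := Polynomial.aeval x
  have : Algebra.FiniteType k (Localization.Away h) :=
    have : Algebra.FiniteType (MvPolynomial (Fin (n + 1)) k) (Localization.Away h) :=
      have := IsLocalization.Away.finitePresentation (S := Localization.Away h) h
      inferInstance
    Algebra.FiniteType.trans (S := MvPolynomial (Fin (n + 1)) k) inferInstance inferInstance
  have : IsNoetherianRing A := Algebra.FiniteType.isNoetherianRing k A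
  have hψ : ψ.toRingHom.FiniteType := by
    refine RingHom.FiniteType.of_comp_finiteType (f := algebraMap k (Polynomial A)) ?_
    have : ψ.toRingHom.comp (algebraMap k (Polynomial A)) = algebraMap k (Localization.Away h) :=
      RingHom.ext fun a => (ψ.restrictScalars k).commutes a
    rw [this, RingHom.finiteType_algebraMap]
    infer_instance
  obtain ⟨g, hg, hgs⟩ := exists_basicOpen_subset ψ.toRingHom
    (transcendental_iff_injective.mp hj) hψ
  obtain ⟨c, hc⟩ : ∃ c : k, g.eval (algebraMap k A c) ≠ 0 := by
    by_contra hcon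
    simp only [not_exists, not_not] at hcon
    exact hg (Polynomial.eq_zero_of_infinite_isRoot g ((Set.infinite_range_of_injective
      (FaithfulSMul.algebraMap_injective k A)).mono (by rintro _ ⟨c, rfl⟩; exact hcon c)))
  let P : PrimeSpectrum (Polynomial A) :=
    ⟨RingHom.ker (Polynomial.evalRingHom (algebraMap k A c)), RingHom.ker_isPrime _⟩
  obtain ⟨Q, hQ⟩ := hgs P hc
  have hQ' : ∀ p, ψ p ∈ Q.asIdeal ↔ p.eval (algebraMap k A c) = 0 := fun p => by
    change ψ p ∈ Q.asIdeal ↔ p ∈ P.asIdeal
    rw [← hQ]; rfl
  have hA : ∀ a, φ a ∈ Q.asIdeal → a = 0 := fun a ha => by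
    have := (hQ' (Polynomial.C a)).mp (by simpa [ψ] using! ha)
    simpa using this
  have hX : x - algebraMap k (Localization.Away h) c ∈ Q.asIdeal := by
    have := (hQ' (Polynomial.X - Polynomial.C (algebraMap k A c))).mpr (by simp)
    simpa [ψ, ← IsScalarTower.algebraMap_apply] using this
  let σ : MvPolynomial (Fin (n + 1)) k →ₐ[k] MvPolynomial (Fin n) k :=
    MvPolynomial.aeval (Fin.insertNth j (MvPolynomial.C c) MvPolynomial.X)
  have hker : ∀ p, σ p = 0 → algebraMap _ (Localization.Away h) p ∈ Q.asIdeal := fun p hp => by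
    obtain ⟨q, rfl⟩ := Ideal.mem_span_singleton'.mp (sub_mem_span j c p hp)
    rw [map_mul, map_sub]
    refine Ideal.mul_mem_left _ _ ?_
    rwa [show algebraMap _ (Localization.Away h) (MvPolynomial.C c : MvPolynomial (Fin (n + 1)) k) =
      algebraMap k (Localization.Away h) c from
        (IsScalarTower.algebraMap_apply k (MvPolynomial (Fin (n + 1)) k) _ c).symm]
  have hσh : σ h ≠ 0 := fun h0 =>
    Q.isPrime.ne_top (Ideal.eq_top_of_isUnit_mem _ (hker h h0)
      (IsLocalization.Away.algebraMap_isUnit h))
  have hu : ∀ y : Submonoid.powers h,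
      IsUnit ((IsScalarTower.toAlgHom k (MvPolynomial (Fin n) k)
        (Localization.Away (σ h))).comp σ y) := by
    rintro ⟨_, m, rfl⟩
    simpa using (IsLocalization.Away.algebraMap_isUnit (σ h)).pow m
  let θ : Localization.Away h →ₐ[k] Localization.Away (σ h) := IsLocalization.liftAlgHom hu
  refine ⟨σ h, hσh, θ.comp φ, (injective_iff_map_eq_zero _).mpr fun a ha => hA a ?_⟩
  obtain ⟨p, s, hps⟩ := IsLocalization.exists_mk'_eq (Submonoid.powers h) (φ a)
  have hp : algebraMap _ (Localization.Away h) p = φ a * algebraMap _ _ (s : MvPolynomial (Fin (n + 1)) k) := by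
    rw [← hps, IsLocalization.mk'_spec]
  have hσp : algebraMap _ (Localization.Away (σ h)) (σ p) = 0 := by
    have := congrArg θ hp
    rw [map_mul, show θ (φ a) = 0 from ha, zero_mul] at this
    simpa [θ] using this
  have := hker p ((IsLocalization.injective _ (powers_le_nonZeroDivisors_of_noZeroDivisors hσh))
    (by rw [hσp, map_zero]))
  rw [hp] at this
  exact (Q.isPrime.mem_or_mem this).resolve_right fun h1 =>
    Q.isPrime.ne_top (Ideal.eq_top_of_isUnit_mem _ h1 (IsLocalization.map_units _ s))

/-- Cutting down to the dimension of `A`. -/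
theorem cut [Infinite k] (A : Type u) [CommRing A] [IsDomain A] [Algebra k A]
    [Algebra.FiniteType k A] : ∀ (n : ℕ) (h : MvPolynomial (Fin n) k), h ≠ 0 →
    ∀ φ : A →ₐ[k] Localization.Away h, Function.Injective φ →
    ∃ (h' : MvPolynomial (Fin (Lib.Dim.Basic.trdegNat k A)) k) (_ : h' ≠ 0)
      (φ' : A →ₐ[k] Localization.Away h'), Function.Injective φ' := by
  intro n
  have hle : ∀ {n : ℕ} (h : MvPolynomial (Fin n) k), h ≠ 0 →
      ∀ φ : A →ₐ[k] Localization.Away h, Function.Injective φ →
        Lib.Dim.Basic.trdegNat k A ≤ n := fun h hh φ hφ => by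
    have := trdeg_le_of_injective φ hφ
    rw [Lib.Dim.Basic.trdeg_eq_trdegNat, trdeg_away _ hh] at this
    exact_mod_cast this
  induction n with
  | zero =>
    intro h hh φ hφ
    rw [Nat.le_zero.mp (hle h hh φ hφ)]
    exact ⟨h, hh, φ, hφ⟩
  | succ n ih =>
    intro h hh φ hφ
    rcases (hle h hh φ hφ).eq_or_lt with heq | hlt
    · rw [heq]; exact ⟨h, hh, φ, hφ⟩
    · obtain ⟨h', hh', φ', hφ'⟩ := step A n h hh φ hφ hlt
      exact ih h' hh' φ' hφ'

end Groth.Agent.H68.RatVar
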